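import Cfsg.Agent.Lib.D4Torus.Setup

/-! The self-centralising cyclic torus of order `(q³ - 1)(q + 1)` of `³D₄(q)`. -/

set_option autoImplicit false
set_option maxRecDepth 20000
set_option maxHeartbeats 1600000

namespace Cfsg.Agent.D4Torus

open Cfsg.Lie Cfsg.Agent.Chev Cfsg.Agent.Chev.Tab
open Matrix (SpecialLinearGroup)
open SL2Pres (up low diagS)

theorem main {K : Type*} [Field K] [Fintype K] (q : ℕ) (hq : IsPrimePow q)
    (hK : Fintype.card K = q ^ 3) :
    ∃ H : Subgroup ↥(twistedD4 K q), IsCyclic ↥H ∧ Nat.card ↥H = (q ^ 3 - 1) * (q + 1) ∧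
      Subgroup.centralizer (H : Set ↥(twistedD4 K q)) = H := by
  classical
  obtain ⟨E, _, _, φ, σ, ζ, hσ, hζ, hζgen, hoζ⟩ := exists_fields hq hK
  obtain ⟨ψ, hψ⟩ := exists_mid (E := E)
  have h2 : 2 ≤ q := hq.one_lt
  have hq3 : 1 ≤ q ^ 3 := Nat.one_le_pow _ _ (by omega)
  set N := (q ^ 3 - 1) * (q + 1) with hN
  have hz : ∀ a b : ℤ, NN q ∣ a - b → ζ ^ a = ζ ^ b := fun a b h => by
    rw [← orderOf_dvd_sub_iff_zpow_eq_zpow, hζ]; exact h
  -- the parameters
  let c : ℕ → Eˣ := fun j => match j with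
    | 0 => ζ ^ ((q : ℤ) + 1)
    | 1 => ζ ^ ((q : ℤ) ^ 2 + q + 1)
    | 2 => ζ ^ ((q : ℤ) ^ 2 + q)
    | 3 => ζ ^ ((q : ℤ) ^ 3 + (q : ℤ) ^ 2)
    | _ => 1
  have hwc : ∀ s : Fin 24, wt T E c s.val = ζ ^ fe q s := fun s => by
    rw [wt_cart]
    simp only [c, fe, ← _root_.zpow_mul, ← _root_.zpow_add, mul_comm]
  have hσu : ∀ u : Eˣ, Units.map σ.toMonoidHom u = u ^ q := fun u => Units.ext (by simp [hσ])
  have hcpow : ∀ j, c j ^ N = 1 := fun j => by
    have hall : ∀ a : ℤ, (ζ ^ a) ^ N = 1 := fun a => by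
      rw [← zpow_natCast, ← _root_.zpow_mul, mul_comm, _root_.zpow_mul, zpow_natCast, ← hoζ,
        pow_orderOf_eq_one, _root_.one_zpow]
    match j with
    | 0 => exact hall _
    | 1 => exact hall _
    | 2 => exact hall _
    | 3 => exact hall _
    | (k + 4) => exact one_pow _
  -- the entries over the small field
  set y : E := (c 1 : E) with hy
  have hyu : ∀ a : ℕ, (y : E) ^ a = ((ζ ^ (((q : ℤ) ^ 2 + q + 1) * a) : Eˣ) : E) := fun a => by
    rw [hy, ← Units.val_pow_eq_pow_val, ← zpow_natCast, show c 1 = ζ ^ ((q : ℤ) ^ 2 + q + 1) from rfl,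
      ← _root_.zpow_mul]
  have hy2 : (y ^ q) ^ q = y := by
    rw [← pow_mul, hyu, hy, show c 1 = ζ ^ ((q : ℤ) ^ 2 + q + 1) from rfl]
    refine congrArg Units.val (hz _ _ ⟨1, ?_⟩)
    simp only [NN]; push_cast; ring
  have hyne : y ^ q ≠ y := by
    rw [hyu, hy, show c 1 = ζ ^ ((q : ℤ) ^ 2 + q + 1) from rfl, Ne, Units.val_inj,
      ← orderOf_dvd_sub_iff_zpow_eq_zpow, hζ]
    intro h
    have h8 : (2 : ℤ) ≤ q := by exact_mod_cast h2
    have h7 := Int.le_of_dvd (by nlinarith) h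
    simp only [NN] at h7
    nlinarith [sq_nonneg (q : ℤ)]
  set Δ : E := y ^ q - y with hΔ
  have hΔ0 : Δ ≠ 0 := sub_ne_zero.2 hyne
  set n : E := y ^ q * y with hn
  set tr : E := y + y ^ q with htr
  have hy0 : y ≠ 0 := Units.ne_zero _
  have hn0 : n ≠ 0 := mul_ne_zero (pow_ne_zero _ hy0) hy0
  have hnfix : n ^ q = n := by rw [hn, mul_pow, hy2, mul_comm]
  have htrfix : tr ^ q = tr := by rw [htr, ← hσ, map_add, hσ, hσ, hy2, add_comm]
  have hdown : ∀ e : E, e ^ q = e → ∃ t : K, φ t = e ∧ t ^ q = t := fun e he => by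
    obtain ⟨t, ht⟩ := mem_range_of_fixed φ (e := e) (by
      rw [hK, show q ^ 3 = q * q * q by ring, pow_mul, pow_mul, he, he, he])
    exact ⟨t, ht, φ.injective (by rw [map_pow, ht, he])⟩
  obtain ⟨n', hn', hn'q⟩ := hdown n hnfix
  obtain ⟨tr', htr', htr'q⟩ := hdown tr htrfix
  obtain ⟨a', ha'⟩ := mem_range_of_fixed φ (e := (c 0 : E)) (by
    rw [hK, ← Units.val_pow_eq_pow_val, ← zpow_natCast, show c 0 = ζ ^ ((q : ℤ) + 1) from rfl,
      ← _root_.zpow_mul]
    refine congrArg Units.val (hz _ _ ⟨1, ?_⟩)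
    simp only [NN]; push_cast; ring)
  have ha0 : a' ≠ 0 := by rintro rfl; rw [map_zero] at ha'; exact Units.ne_zero _ ha'.symm
  have hn'0 : n' ≠ 0 := by rintro rfl; rw [map_zero] at hn'; exact hn0 hn'.symm
  let one' : {u : Kˣ // (u : K) ^ q = u} := ⟨1, by simp⟩
  let par : ℕ → Kˣ := TwD4.par q (Units.mk0 a' ha0, one')
  let u0 : GL T.D.Idx K := tor T K par *
    (xg g0 14 (-n') * xg g0 9 (n'⁻¹) * xg g0 14 (-n') * xg g0 14 tr')
  have hneg : ∀ t : K, t ^ q = t → (-t) ^ q = -t := fun t ht => by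
    rw [neg_pow, TwD4.neg_one_pow hq hK, ht, neg_one_mul]
  have hu0 : u0 ∈ twistedD4 K q := by
    rw [TwD4.tw_eq]
    refine mul_mem (TwD4.par_mem hq hK _) (mul_mem (mul_mem (mul_mem ?_ ?_) ?_) ?_)
    · exact TwD4.mid_mem (Or.inl rfl) (hneg _ hn'q)
    · exact TwD4.mid_mem (Or.inr rfl) (by rw [inv_pow, hn'q])
    · exact TwD4.mid_mem (Or.inl rfl) (hneg _ hn'q)
    · exact TwD4.mid_mem (Or.inl rfl) htr'q
  let x : ↥(twistedD4 K q) := ⟨u0, hu0⟩
  -- the conjugating element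
  let P : SpecialLinearGroup (Fin 2) E := ⟨!![Δ⁻¹, y * Δ⁻¹; 1, y ^ q], by
    rw [Matrix.det_fin_two_of]
    rw [hΔ]; field_simp⟩
  let b : ℕ → Eˣ := fun j => Units.map φ.toMonoidHom (par j)
  have hb0 : b 0 = c 0 := Units.ext ha'
  have hb1 : b 1 = 1 := Units.ext (map_one φ)
  have hb2 : b 2 = c 2 := by
    show Units.map φ.toMonoidHom (Units.mk0 a' ha0 ^ q) = _
    rw [map_pow]
    show b 0 ^ q = _
    rw [hb0, show c 0 = ζ ^ ((q : ℤ) + 1) from rfl, show c 2 = ζ ^ ((q : ℤ) ^ 2 + q) from rfl,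
      ← zpow_natCast, ← _root_.zpow_mul]
    congr 1; ring
  have hb3 : b 3 = c 3 := by
    show Units.map φ.toMonoidHom ((Units.mk0 a' ha0 ^ q) ^ q) = _
    rw [map_pow]
    show b 2 ^ q = _
    rw [hb2, show c 2 = ζ ^ ((q : ℤ) ^ 2 + q) from rfl,
      show c 3 = ζ ^ ((q : ℤ) ^ 3 + (q : ℤ) ^ 2) from rfl, ← zpow_natCast, ← _root_.zpow_mul]
    congr 1; ring
  have hwb : (wt T E b 14 : E) = n⁻¹ := by
    have hn_u : n = ((c 1 ^ (q + 1) : Eˣ) : E) := by
      rw [hn, hy, Units.val_pow_eq_pow_val, pow_succ]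
    rw [show (14 : ℕ) = (14 : Fin 24).val from rfl, wt_cart, hn_u, ← Units.val_inv_eq_inv_val, hb0,
      hb1, hb2, hb3, show cart 0 14 = -1 from rfl, show cart 2 14 = -1 from rfl,
      show cart 3 14 = -1 from rfl, _root_.one_zpow, mul_one, Units.val_inj]
    show (ζ ^ ((q : ℤ) + 1)) ^ (-1 : ℤ) * (ζ ^ ((q : ℤ) ^ 2 + q)) ^ (-1 : ℤ) *
      (ζ ^ ((q : ℤ) ^ 3 + (q : ℤ) ^ 2)) ^ (-1 : ℤ) = ((ζ ^ ((q : ℤ) ^ 2 + q + 1)) ^ (q + 1))⁻¹
    rw [← _root_.zpow_mul, ← _root_.zpow_mul, ← _root_.zpow_mul, ← _root_.zpow_add,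
      ← _root_.zpow_add, ← zpow_natCast, ← _root_.zpow_mul, ← _root_.zpow_neg]
    congr 1; push_cast; ring
  let h0 : SpecialLinearGroup (Fin 2) E := up (-n) * low n⁻¹ * up (-n) * up tr
  let ux : GL T.D.Idx E := mapG φ u0
  have hux : ux = tor T E b * ψ h0 := by
    show mapG φ u0 = _
    simp only [u0, h0, map_mul, mapG_tor, mapG_xg, hψ.hX, hψ.hY, map_neg, map_inv₀, hn', htr']
    rfl
  let C : GL T.D.Idx E →* GL T.D.Idx E := (MulAut.conj (ψ P)).toMonoidHom
  have hCx : C ux = tor T E c := by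
    have hh0 : (h0 : Matrix (Fin 2) (Fin 2) E) = !![0, -n; n⁻¹, tr * n⁻¹] := by
      show (up (-n) : Matrix (Fin 2) (Fin 2) E) * (low n⁻¹ : Matrix (Fin 2) (Fin 2) E) *
        (up (-n) : Matrix (Fin 2) (Fin 2) E) * (up tr : Matrix (Fin 2) (Fin 2) E) = _
      rw [SL2Pres.up_val, SL2Pres.up_val, SL2Pres.low_val, Matrix.mul_fin_two, Matrix.mul_fin_two,
        Matrix.mul_fin_two]
      ext i j
      fin_cases i <;> fin_cases j <;> simp [hn0, mul_comm]
    have e1 : theta (wt T E b 14)⁻¹ P * h0 = diagS E (c 1) * P := by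
      refine Subtype.ext ?_
      show ((theta (wt T E b 14)⁻¹ P : SpecialLinearGroup (Fin 2) E) : Matrix (Fin 2) (Fin 2) E) * (h0 : Matrix (Fin 2) (Fin 2) E) =
        (diagS E (c 1) : Matrix (Fin 2) (Fin 2) E) * (P : Matrix (Fin 2) (Fin 2) E)
      rw [theta_val, SL2Pres.diagS_val]
      simp only [hh0, inv_inv, Units.val_inv_eq_inv_val, hwb, ← hy]
      show _ = !![y, 0; 0, y⁻¹] * !![Δ⁻¹, y * Δ⁻¹; 1, y ^ q]
      rw [Matrix.mul_fin_two]
      ext i j
      fin_cases i <;> fin_cases j <;>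
        simp [P, Matrix.mul_apply, Fin.sum_univ_two, hn, htr] <;> field_simp <;> ring
    show ψ P * ux * (ψ P)⁻¹ = _
    have e2 : ψ P * tor T E b = tor T E b * ψ (theta (wt T E b 14)⁻¹ P) := by
      have := tor_conj_mid hψ b⁻¹ P
      rw [map_inv, inv_inv] at this
      rw [show wt T E b⁻¹ 14 = (wt T E b 14)⁻¹ by simp [wt, Finset.prod_inv_distrib]] at this
      rw [← this]; group
    rw [hux, ← mul_assoc, e2, mul_assoc (tor T E b), ← map_mul, e1, map_mul, hψ.map_diag,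
      hS_eq_tor, ← mul_assoc, ← map_mul, mul_inv_cancel_right]
    refine tor_congr g0 fun j hj => ?_
    change j < 4 at hj
    interval_cases j <;> simp [Pi.mulSingle_apply, hb0, hb1, hb2, hb3]
  -- the order
  have hordc : orderOf (tor T E c) = N := by
    refine Nat.dvd_antisymm (orderOf_dvd_of_pow_eq_one ?_) ?_
    · rw [← map_pow, ← map_one (tor T E)]
      exact tor_congr g0 fun j _ => hcpow j
    · have h := pow_orderOf_eq_one (tor T E c)
      rw [← map_pow, ← map_one (tor T E), tor_eq_iff_wt g0] at h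
      have h18 := h 0 (by decide)
      rw [div_one, show T.smp 0 = 18 by decide +kernel] at h18
      have hw : wt T E (c ^ orderOf (tor T E c)) 18 = wt T E c 18 ^ orderOf (tor T E c) := by
        simp only [wt, Pi.pow_apply, ← Finset.prod_pow]
        exact Finset.prod_congr rfl fun j _ => by
          rw [← zpow_natCast, ← zpow_natCast, ← _root_.zpow_mul, ← _root_.zpow_mul, mul_comm]
      rw [hw, show (18 : ℕ) = (18 : Fin 24).val from rfl, hwc, ← zpow_natCast, ← _root_.zpow_mul,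
        ← orderOf_dvd_iff_zpow_eq_one, hζ] at h18
      have h19 := (fe_coprime q).symm.dvd_of_dvd_mul_left h18
      rw [show NN (q : ℤ) = ((N : ℕ) : ℤ) by rw [hN, NN]; push_cast [Nat.cast_sub hq3]; ring] at h19
      exact Int.natCast_dvd_natCast.1 h19
  have hCinj : Function.Injective C := (MulAut.conj (ψ P)).injective
  have hordx : orderOf x = N := by
    rw [← Subgroup.orderOf_coe x]
    show orderOf u0 = N
    rw [← orderOf_injective (mapG φ) (mapG_injective φ) u0]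
    show orderOf ux = N
    rw [← orderOf_injective C hCinj ux, hCx, hordc]
  refine ⟨Subgroup.zpowers x, Subgroup.isCyclic_zpowers x, (Nat.card_zpowers x).trans hordx,
    le_antisymm ?_ ?_⟩
  swap
  · intro w hw
    rw [Subgroup.mem_centralizer_iff]
    intro h hh
    obtain ⟨i, rfl⟩ := Subgroup.mem_zpowers_iff.1 hw
    obtain ⟨j, rfl⟩ := Subgroup.mem_zpowers_iff.1 hh
    exact ((Commute.refl x).zpow_zpow j i).eq
  -- the equations for everything commuting with `x`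
  have key : ∀ w : ↥(twistedD4 K q), Commute x w → ∃ d, C (mapG φ w.1) = tor T E d ∧
      wt T E d 18 ^ N = 1 ∧ wt T E d 14 = wt T E d 18 ^ (q ^ 3 - 1) ∧
      wt T E d 13 = wt T E d 18 ^ q / wt T E d 18 ^ (q ^ 3 - 1) ∧
      wt T E d 12 = wt T E d 18 ^ (q ^ 2) := by
    intro w hw
    have hw' := TwD4.twisted_fixed hq hK w.1 w.2
    have hmap := mapG_sigma φ (TwD4.psi hq hK) σ
      (fun t => by rw [TwD4.psi_apply, map_pow, hσ]) hw'.1
    have hfix : graphσ g0 D4Data.symA_ok σ (mapG φ w.1) =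
        mapG φ w.1 := hmap.2.trans (congrArg (mapG φ) hw'.2)
    have hgrp : C (mapG φ w.1) ∈ T.D.group E :=
      mul_mem (mul_mem (hψ.mem_group P) hmap.1) (inv_mem (hψ.mem_group P))
    have hcomm : Commute (tor T E c) (C (mapG φ w.1)) := by
      rw [← hCx]
      exact ((show Commute u0 w.1 from congrArg Subtype.val hw.eq).map (mapG φ)).map C
    obtain ⟨d, hd⟩ := exists_tor h2 ζ hζ hwc hgrp hcomm
    let β : Eˣ := -(Units.mk0 Δ hΔ0)⁻¹
    have hM : SpecialLinearGroup.map σ P =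
        (up (β : E) * low (-(β : E)⁻¹) * up (β : E)) * P := by
      refine Subtype.ext ?_
      have hΔq : Δ ^ q = -Δ := by rw [hΔ, ← hσ, map_sub, hσ, hσ, hy2]; ring
      show σ.mapMatrix !![Δ⁻¹, y * Δ⁻¹; 1, y ^ q] =
        (up (β : E) : Matrix (Fin 2) (Fin 2) E) * (low (-(β : E)⁻¹) : Matrix (Fin 2) (Fin 2) E) *
          (up (β : E) : Matrix (Fin 2) (Fin 2) E) * !![Δ⁻¹, y * Δ⁻¹; 1, y ^ q]
      simp only [SL2Pres.up_val, SL2Pres.low_val, Matrix.mul_fin_two]
      have hβ : (β : E) = -Δ⁻¹ := by simp [β]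
      ext i j
      fin_cases i <;> fin_cases j <;>
        simp [RingHom.mapMatrix_apply, hσ, hy2, hΔq, hβ, inv_pow, mul_pow] <;>
        (simp only [hΔ] at *; field_simp; ring)
    have heq : graphσ g0 D4Data.symA_ok σ (tor T E d) =
        ψ (up (β : E) * low (-(β : E)⁻¹) * up (β : E)) * tor T E d *
          (ψ (up (β : E) * low (-(β : E)⁻¹) * up (β : E)))⁻¹ := by
      rw [← hd]
      show graphσ g0 D4Data.symA_ok σ (ψ P * _ * (ψ P)⁻¹) = _
      rw [map_mul, map_mul, map_inv, sigma_mid hψ, hfix, hM, map_mul]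
      show _ = _ * (ψ P * _ * (ψ P)⁻¹) * _
      group
    exact ⟨d, hd, weights_determined d (by omega) (weight_equations hψ σ hσ d β heq)⟩
  intro w hw
  have hxw : Commute x w := Subgroup.mem_centralizer_iff.1 hw x (Subgroup.mem_zpowers x)
  obtain ⟨d, hd, hd1, hd2, hd3, hd4⟩ := key w hxw
  obtain ⟨k, hk⟩ : ∃ k : ℤ, (ζ ^ fe q 18) ^ k = wt T E d 18 := by
    obtain ⟨m, hm⟩ := Subgroup.mem_zpowers_iff.1 (hζgen _ hd1)
    obtain ⟨e, f, hef⟩ := fe_coprime q
    refine ⟨e * m, ?_⟩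
    rw [← _root_.zpow_mul, ← hm]
    exact hz _ _ ⟨-(f * m), by linear_combination m * hef⟩
  obtain ⟨d', hd', -, e2, e3, e4⟩ := key (x ^ k) ((Commute.refl x).zpow_right k)
  have hwk : tor T E d' = tor T E (c ^ k) := by
    rw [← hd']
    show C (mapG φ (u0 ^ k)) = _
    rw [map_zpow, map_zpow, map_zpow]
    exact congrArg (· ^ k) hCx
  have hsame : ∀ i < T.l, wt T E (d' / (c ^ k)) (T.smp i) = 1 := (tor_eq_iff_wt g0).1 hwk
  have hdiv : ∀ (u v : ℕ → Eˣ) (s : ℕ), wt T E (u / v) s = wt T E u s / wt T E v s := fun u v s => by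
    rw [eq_div_iff_mul_eq', ← wt_mul, div_mul_cancel]
  have e18 : wt T E d' 18 = wt T E d 18 := by
    have := hsame 0 (by decide)
    rw [hdiv, show T.smp 0 = 18 by decide +kernel, div_eq_one] at this
    rw [this, ← hk, ← hwc]
    simp only [wt, Pi.pow_apply, ← Finset.prod_zpow]
    exact Finset.prod_congr rfl fun j _ => by
      rw [← _root_.zpow_mul, ← _root_.zpow_mul, mul_comm]; rfl
  have hdd : tor T E d = tor T E d' := by
    rw [tor_eq_iff_wt g0]
    intro i hi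
    change i < 4 at hi
    rw [hdiv, div_eq_one]
    interval_cases i
    · rw [show T.smp 0 = 18 by decide +kernel, e18]
    · rw [show T.smp 1 = 14 by decide +kernel, hd2, e2, e18]
    · rw [show T.smp 2 = 13 by decide +kernel, hd3, e3, e18]
    · rw [show T.smp 3 = 12 by decide +kernel, hd4, e4, e18]
  have : x ^ k = w := by
    refine Subtype.ext (mapG_injective φ (hCinj ?_))
    rw [hd', ← hdd, ← hd]
  exact this ▸ zpow_mem (Subgroup.mem_zpowers x) k

end Cfsg.Agent.D4Torus
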