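import Cfsg.Agent.Lib.D4Torus.Stab
import Cfsg.Agent.Lib.Lie.CovMain
import Cfsg.Agent.Lib.Lie.GoodW
import Cfsg.Agent.Lib.SL2Pres.Main

/-! Change of field and the `SL₂` on the central node. -/

set_option autoImplicit false
set_option maxRecDepth 20000

namespace Cfsg.Agent.D4Torus

open Cfsg.Lie Cfsg.Agent.Chev Cfsg.Agent.Chev.Tab
open Matrix (SpecialLinearGroup)
open SL2Pres (up low diagS)

theorem gW : T.GoodW TwD4.phiK [(6, 22, 0), (1, 23, 0), (3, 22, 0), (2, 22, 0)] :=
  ⟨TwD4.gK, by decide +kernel⟩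

variable {K E : Type*} [Field K] [Field E]

/-- Change of field on the general linear groups. -/
noncomputable def mapG (φ : K →+* E) : GL T.D.Idx K →* GL T.D.Idx E :=
  Units.map φ.mapMatrix.toMonoidHom

theorem mapG_injective (φ : K →+* E) : Function.Injective (mapG φ) :=
  Units.map_injective (Matrix.map_injective φ.injective)

theorem mapG_xg (φ : K →+* E) (r : ℕ) (t : K) : mapG φ (xg g0 r t) = xg g0 r (φ t) := by
  refine Units.ext (Matrix.ext fun a b => ?_)
  show φ ((T.D.x K r t) a b) = T.D.x E r (φ t) a b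
  by_cases hr : r < T.D.nroots
  · simp only [ChevalleyDatum.x, dif_pos hr, ChevalleyDatum.xMat, Matrix.of_apply]
    rcases b with b | b <;> rcases a with a | a <;> dsimp only <;> split_ifs <;>
      simp [map_list_sum, List.map_map, Function.comp_def]
  · simp only [ChevalleyDatum.x, dif_neg hr, Matrix.one_apply]
    split_ifs <;> simp

theorem mapG_tor (φ : K →+* E) (c : ℕ → Kˣ) :
    mapG φ (tor T K c) = tor T E fun j => Units.map φ.toMonoidHom (c j) := by
  refine Units.ext (Matrix.ext fun a b => ?_)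
  show φ ((tor T K c : Matrix T.D.Idx T.D.Idx K) a b) = _
  rw [tor_apply, tor_apply, dg_val, dg_val, Matrix.diagonal_apply, Matrix.diagonal_apply]
  split_ifs with hab
  · rcases a with a | a
    · simp [dgv]
    · simp only [dgv, Sum.elim_inr, wt, Units.coe_prod, map_prod]
      refine Finset.prod_congr rfl fun j _ => ?_
      simp [Units.val_zpow_eq_zpow_val, map_zpow₀]
  · simp

/-- On the group, change of field commutes with the twisted endomorphisms. -/
theorem mapG_sigma (φ : K →+* E) (σK : K →+* K) (σE : E →+* E) (h : ∀ t, φ (σK t) = σE (φ t))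
    {x : GL T.D.Idx K} (hx : x ∈ T.D.group K) :
    mapG φ x ∈ T.D.group E ∧
      graphσ g0 D4Data.symA_ok σE (mapG φ x) = mapG φ (graphσ g0 D4Data.symA_ok σK x) := by
  induction hx using Subgroup.closure_induction with
  | mem y hy =>
    obtain ⟨r, t, hr⟩ := hy
    have hy' : y = xg g0 r t := eq_xg g0 (by rw [hr, ChevalleyDatum.x, dif_pos r.2])
    have hr' : (r : ℕ) < T.n := r.2
    refine ⟨by rw [hy', mapG_xg]; exact xg_mem_group _ _ _, ?_⟩
    rw [hy', mapG_xg, graphσ_xg g0 _ _ hr', graphσ_xg g0 _ _ hr', mapG_xg, map_mul, map_intCast, h]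
  | one => simp [one_mem]
  | mul a b _ _ ha hb => exact ⟨by rw [map_mul]; exact mul_mem ha.1 hb.1, by simp [ha.2, hb.2]⟩
  | inv a _ ha => exact ⟨by rw [map_inv]; exact inv_mem ha.1, by simp [ha.2]⟩

/-- rank one data on the central node -/
noncomputable def midData : SL2Pres.SData E (GL T.D.Idx E) where
  X := xg g0 14
  Y := xg g0 9
  addX := xg_add g0 _
  addY := xg_add g0 _
  relX := fun t u ht => by
    have h := congrArg (Tab.Cov.θ0 gA E) (Tab.Cov.sn_conj_self gW 14 (by decide) t u ht)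
    simpa [Tab.Cov.sn, Tab.Cov.θ0_sx, show T.neg 14 = 9 from rfl] using h
  relY := fun t u ht => by
    have h := congrArg (Tab.Cov.θ0 gA E) (Tab.Cov.sn_conj_self gW 9 (by decide) t u ht)
    simpa [Tab.Cov.sn, Tab.Cov.θ0_sx, show T.neg 9 = 14 from rfl] using h

/-- Properties of the homomorphism on the central node. -/
structure Mid (ψ : SpecialLinearGroup (Fin 2) E →* GL T.D.Idx E) : Prop where
  hX : ∀ t, ψ (up t) = xg g0 14 t
  hY : ∀ t, ψ (low t) = xg g0 9 t

theorem exists_mid [Finite E] : ∃ ψ : SpecialLinearGroup (Fin 2) E →* GL T.D.Idx E, Mid ψ := by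
  obtain ⟨ψ, hX, hY⟩ := SL2Pres.exists_hom (midData (E := E))
  exact ⟨ψ, ⟨hX, hY⟩⟩

namespace Mid

variable {ψ : SpecialLinearGroup (Fin 2) E →* GL T.D.Idx E} (hψ : Mid ψ)
include hψ

theorem mem_group (g : SpecialLinearGroup (Fin 2) E) : ψ g ∈ T.D.group E := by
  have hle : Subgroup.closure (Set.range (up (K := E)) ∪ Set.range (low (K := E))) ≤
      (T.D.group E).comap ψ := by
    rw [Subgroup.closure_le]
    rintro z (⟨b, rfl⟩ | ⟨b, rfl⟩) <;> simp only [SetLike.mem_coe, Subgroup.mem_comap]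
    · rw [hψ.hX]; exact xg_mem_group _ _ _
    · rw [hψ.hY]; exact xg_mem_group _ _ _
  exact hle (SL2Pres.closure_up_low (K := E) ▸ Subgroup.mem_top g)

theorem map_diag (β : Eˣ) : ψ (diagS E β) = hS T E 1 β := by
  have hD : diagS E β = (up (β : E) * low (-(β : E)⁻¹) * up (β : E)) *
      (up (-1) * low (-(-1)⁻¹) * up (-1)) := Subtype.ext (by
    simp [SL2Pres.up_val, SL2Pres.low_val, SL2Pres.diagS_val])
  rw [hD, ← hE_smp g0 (show 1 < T.l by decide), hE, nE, nE, show T.smp 1 = 14 by decide +kernel,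
    show T.neg 14 = 9 from rfl]
  simp only [map_mul, hψ.hX, hψ.hY]

theorem map_w (β : Eˣ) :
    ψ (up (β : E) * low (-(β : E)⁻¹) * up (β : E)) = hS T E 1 β * nG g0 E 1 := by
  simp only [map_mul, hψ.hX, hψ.hY]
  rw [← nE_simple g0 (show 1 < T.l by decide) β, show T.smp 1 = 14 by decide +kernel,
    show T.neg 14 = 9 from rfl]

end Mid

end Cfsg.Agent.D4Torus
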