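import Cfsg.Agent.Lib.D4Torus.Maps
import Mathlib.FieldTheory.Finite.Extension

/-! The fields, the conjugating matrix and the weight equations. -/

set_option autoImplicit false
set_option maxRecDepth 20000

namespace Cfsg.Agent.D4Torus

open Cfsg.Lie Cfsg.Agent.Chev Cfsg.Agent.Chev.Tab
open Matrix (SpecialLinearGroup)
open SL2Pres (up low diagS)

theorem mem_range_of_fixed {K E : Type*} [Field K] [Field E] [Fintype K] (φ : K →+* E) {e : E}
    (h : e ^ Fintype.card K = e) : ∃ t, φ t = e := by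
  classical
  open Polynomial in
  by_contra hne
  push_neg at hne
  have h1 : 1 < Fintype.card K := Fintype.one_lt_card
  set p : E[X] := X ^ Fintype.card K - X with hp
  have hp0 : p ≠ 0 := FiniteField.X_pow_card_sub_X_ne_zero E h1
  have hsub : (insert e (Finset.univ.image φ)).val ⊆ p.roots := by
    intro x hx
    rw [mem_roots hp0, IsRoot.def, hp, eval_sub, eval_pow, eval_X, sub_eq_zero]
    rcases Finset.mem_insert.1 hx with rfl | hx
    · exact h
    · obtain ⟨t, -, rfl⟩ := Finset.mem_image.1 hx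
      rw [← map_pow, FiniteField.pow_card]
  have hcard := card_le_degree_of_subset_roots hsub
  rw [Finset.card_insert_of_notMem (by simpa using hne), Finset.card_image_of_injective _ φ.injective,
    Finset.card_univ, FiniteField.X_pow_card_sub_X_natDegree_eq E h1] at hcard
  omega

theorem exists_fields {K : Type*} [Field K] [Fintype K] {q : ℕ} (hq : IsPrimePow q)
    (hK : Fintype.card K = q ^ 3) :
    ∃ (E : Type) (_ : Field E) (_ : Finite E) (φ : K →+* E) (σ : E →+* E) (ζ : Eˣ),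
      (∀ e, σ e = e ^ q) ∧ (orderOf ζ : ℤ) = NN q ∧
      (∀ u : Eˣ, u ^ ((q ^ 3 - 1) * (q + 1)) = 1 → u ∈ Subgroup.zpowers ζ) ∧
      orderOf ζ = (q ^ 3 - 1) * (q + 1) := by
  classical
  obtain ⟨p, hp⟩ := CharP.exists K
  haveI : Fact p.Prime := ⟨CharP.char_is_prime K p⟩
  haveI : Finite K := Finite.of_fintype K
  let E := FiniteField.Extension K p 2
  haveI : Fintype E := Fintype.ofFinite E
  have hcE : Fintype.card E = q ^ 6 := by
    rw [← Nat.card_eq_fintype_card, FiniteField.natCard_extension, Nat.card_eq_fintype_card, hK,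
      ← pow_mul]
  obtain ⟨σ, hσ⟩ := TwField.exists_powHom (K := E) hq hcE
  have h2 : 2 ≤ q := hq.one_lt
  set N := (q ^ 3 - 1) * (q + 1) with hN
  set r := q ^ 2 - q + 1 with hr
  have hqq : q ≤ q ^ 2 := Nat.le_self_pow two_ne_zero q
  have h1 : 1 ≤ q ^ 3 := Nat.one_le_pow _ _ (by omega)
  have hrN : r * N = q ^ 6 - 1 := by
    have h6 : 1 ≤ q ^ 6 := Nat.one_le_pow _ _ (by omega)
    zify [h6]
    rw [hN, hr]
    push_cast [Nat.cast_sub hqq, Nat.cast_sub h1]
    ring
  obtain ⟨z, hz⟩ := IsCyclic.exists_generator (α := Eˣ)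
  have hoz : orderOf z = r * N := by
    rw [orderOf_eq_card_of_forall_mem_zpowers hz, Nat.card_units, Nat.card_eq_fintype_card, hcE, hrN]
  have hr0 : r ≠ 0 := by omega
  have hoζ : orderOf (z ^ r) = N := by
    rw [orderOf_pow_of_dvd hr0 (by rw [hoz]; exact dvd_mul_right _ _), hoz,
      Nat.mul_div_cancel_left _ (by omega)]
  refine ⟨E, inferInstance, inferInstance, algebraMap K E, σ, z ^ r, hσ, ?_, fun u hu => ?_, hoζ⟩
  · rw [hoζ, hN, NN]
    push_cast [Nat.cast_sub h1]
    ring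
  · obtain ⟨j, rfl⟩ : ∃ j : ℕ, z ^ j = u := by
      have := hz u
      rwa [← mem_powers_iff_mem_zpowers, Submonoid.mem_powers_iff] at this
    rw [← pow_mul] at hu
    have hd := orderOf_dvd_of_pow_eq_one hu
    rw [hoz] at hd
    have h3 : 1 < q ^ 3 := Nat.one_lt_pow three_ne_zero (by omega)
    have hN0 : 0 < N := Nat.mul_pos (by omega) (by omega)
    obtain ⟨k, rfl⟩ := Nat.dvd_of_mul_dvd_mul_right hN0 hd
    rw [pow_mul]
    exact pow_mem (Subgroup.mem_zpowers _) k

variable {F : Type*} [Field F]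

theorem wt_cart (c : ℕ → Fˣ) (s : Fin 24) :
    wt T F c s.val = c 0 ^ cart 0 s * c 1 ^ cart 1 s * c 2 ^ cart 2 s * c 3 ^ cart 3 s := by
  rw [← cart_eq 0 s, ← cart_eq 1 s, ← cart_eq 2 s, ← cart_eq 3 s]
  simp only [wt, show T.l = 4 from rfl, Finset.prod_range_succ, Finset.prod_range_zero, one_mul]
  rfl

theorem wt_add (c : ℕ → Fˣ) {r s t : Fin 24} (h : ∀ j : Fin 4, cart j t = cart j r + cart j s) :
    wt T F c t.val = wt T F c r.val * wt T F c s.val := by
  rw [wt_cart, wt_cart, wt_cart, h, h, h, h, _root_.zpow_add, _root_.zpow_add, _root_.zpow_add,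
    _root_.zpow_add]
  ac_rfl

/-- Conjugation by a diagonal matrix on `SL₂`. -/
def theta (w : Fˣ) : SpecialLinearGroup (Fin 2) F →* SpecialLinearGroup (Fin 2) F where
  toFun g := ⟨!![g.1 0 0, (w : F) * g.1 0 1; ((w⁻¹ : Fˣ) : F) * g.1 1 0, g.1 1 1], by
    have h := g.2
    rw [Matrix.det_fin_two] at h
    rw [Matrix.det_fin_two]
    simp only [Matrix.of_apply, Matrix.cons_val', Matrix.cons_val_zero, Matrix.cons_val_one,
      Matrix.empty_val', Matrix.cons_val_fin_one]
    have hw : (w : F) * ((w⁻¹ : Fˣ) : F) = 1 := Units.mul_inv w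
    linear_combination h - g.1 0 1 * g.1 1 0 * hw⟩
  map_one' := Subtype.ext (by ext i j; fin_cases i <;> fin_cases j <;> simp)
  map_mul' g h := Subtype.ext (by
    have hw : (w : F) * ((w⁻¹ : Fˣ) : F) = 1 := Units.mul_inv w
    show !![(g.1 * h.1) 0 0, (w : F) * (g.1 * h.1) 0 1; ((w⁻¹ : Fˣ) : F) * (g.1 * h.1) 1 0,
      (g.1 * h.1) 1 1] = (!![g.1 0 0, (w : F) * g.1 0 1; ((w⁻¹ : Fˣ) : F) * g.1 1 0, g.1 1 1] *
      !![h.1 0 0, (w : F) * h.1 0 1; ((w⁻¹ : Fˣ) : F) * h.1 1 0, h.1 1 1])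
    ext i j
    fin_cases i <;> fin_cases j <;>
      simp [Matrix.mul_apply, Fin.sum_univ_two] <;> field_simp)

theorem theta_val (w : Fˣ) (g : SpecialLinearGroup (Fin 2) F) :
    ((theta w g : SpecialLinearGroup (Fin 2) F) : Matrix (Fin 2) (Fin 2) F) =
      !![g.1 0 0, (w : F) * g.1 0 1; ((w⁻¹ : Fˣ) : F) * g.1 1 0, g.1 1 1] := rfl

/-- The torus acts on the node by diagonal conjugation. -/
theorem tor_conj_mid {ψ : SpecialLinearGroup (Fin 2) F →* GL T.D.Idx F} (hψ : Mid ψ) (b : ℕ → Fˣ)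
    (g : SpecialLinearGroup (Fin 2) F) :
    tor T F b * ψ g * (tor T F b)⁻¹ = ψ (theta (wt T F b 14) g) := by
  have h : (MulAut.conj (tor T F b)).toMonoidHom.comp ψ = ψ.comp (theta (wt T F b 14)) := by
    refine MonoidHom.eq_of_eqOn_dense (SL2Pres.closure_up_low (K := F)) ?_
    rintro _ (⟨t, rfl⟩ | ⟨t, rfl⟩)
    · simp only [MonoidHom.comp_apply, MulEquiv.coe_toMonoidHom, MulAut.conj_apply, hψ.hX,
        tor_xg g0 b (show 14 < T.n by decide)]
      rw [← hψ.hX]
      congr 1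
      exact Subtype.ext (by ext i j; fin_cases i <;> fin_cases j <;> simp [theta_val, SL2Pres.up_val])
    · simp only [MonoidHom.comp_apply, MulEquiv.coe_toMonoidHom, MulAut.conj_apply, hψ.hY,
        tor_xg g0 b (show 9 < T.n by decide)]
      rw [← hψ.hY, show (wt T F b 9 : Fˣ) = (wt T F b 14)⁻¹ from
        (congrArg (wt T F b) (show (9 : ℕ) = T.neg 14 from rfl)).trans (wt_neg g0 (by decide) b)]
      congr 1
      exact Subtype.ext (by ext i j; fin_cases i <;> fin_cases j <;> simp [theta_val, SL2Pres.low_val])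
  exact DFunLike.congr_fun h g

/-- The twisted endomorphism on the node is the field endomorphism. -/
theorem sigma_mid {ψ : SpecialLinearGroup (Fin 2) F →* GL T.D.Idx F} (hψ : Mid ψ) (σ : F →+* F)
    (g : SpecialLinearGroup (Fin 2) F) :
    graphσ g0 D4Data.symA_ok σ (ψ g) = ψ (SpecialLinearGroup.map σ g) := by
  have h : (graphσ g0 D4Data.symA_ok σ).comp ψ = ψ.comp (SpecialLinearGroup.map σ) := by
    refine MonoidHom.eq_of_eqOn_dense (SL2Pres.closure_up_low (K := F)) ?_
    rintro _ (⟨t, rfl⟩ | ⟨t, rfl⟩)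
    · rw [MonoidHom.comp_apply, MonoidHom.comp_apply, hψ.hX, graphσ_xg g0 _ _ (by decide),
        show D4Data.symA.π.getD 14 0 = 14 from rfl, show D4Data.symA.ζ.getD 14 1 = 1 from rfl,
        Int.cast_one, one_mul, ← hψ.hX]
      congr 1
      exact Subtype.ext (by ext i j; fin_cases i <;> fin_cases j <;> simp [SL2Pres.up_val])
    · rw [MonoidHom.comp_apply, MonoidHom.comp_apply, hψ.hY, graphσ_xg g0 _ _ (by decide),
        show D4Data.symA.π.getD 9 0 = 9 from rfl, show D4Data.symA.ζ.getD 9 1 = 1 from rfl,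
        Int.cast_one, one_mul, ← hψ.hY]
      congr 1
      exact Subtype.ext (by ext i j; fin_cases i <;> fin_cases j <;> simp [SL2Pres.low_val])
  exact DFunLike.congr_fun h g

/-- The equations satisfied by the weights of a rational point of the twisted torus. -/
theorem weight_equations {ψ : SpecialLinearGroup (Fin 2) F →* GL T.D.Idx F} (hψ : Mid ψ) {q : ℕ}
    (σ : F →+* F) (hσ : ∀ e, σ e = e ^ q) (d : ℕ → Fˣ) (β : Fˣ)
    (h : graphσ g0 D4Data.symA_ok σ (tor T F d) =
      ψ (up (β : F) * low (-(β : F)⁻¹) * up (β : F)) * tor T F d *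
        (ψ (up (β : F) * low (-(β : F)⁻¹) * up (β : F)))⁻¹) :
    wt T F d 16 = wt T F d 18 ^ q ∧ wt T F d 15 = wt T F d 13 ^ q ∧
      wt T F d 19 = wt T F d 12 ^ q ∧ wt T F d 9 = wt T F d 14 ^ q := by
  have hi : 1 < T.l := by decide
  have h2 : graphσ g0 D4Data.symA_ok σ (tor T F d) = dg T F fun s => wt T F d (T.ref 1 s) := by
    rw [h, hψ.map_w, show ∀ a b x : GL T.D.Idx F, a * b * x * (a * b)⁻¹ = a * (b * x * b⁻¹) * a⁻¹
      from fun a b x => by group, tor_apply, nG_dg g0 hi, hS_eq_tor, tor_apply, ← map_inv,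
      ← map_mul, ← map_mul, mul_right_comm, mul_inv_cancel, one_mul]
  have key : ∀ s : ℕ, s < T.n → ∀ p : ℕ, D4Data.symA.π.getD s 0 = p → D4Data.symA.ζ.getD s 1 = 1 →
      ∀ m : ℕ, T.ref 1 p = m → p < T.n → wt T F d m = wt T F d s ^ q := by
    intro s hs p hp hz m hm hpn
    have e := congrArg (graphσ g0 D4Data.symA_ok σ) (tor_xg g0 d hs (1 : F))
    rw [map_mul, map_mul, map_inv, h2, graphσ_xg g0 _ _ hs, graphσ_xg g0 _ _ hs, hp, hz,
      Int.cast_one, one_mul, map_one, one_mul, mul_one, hσ] at e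
    obtain ⟨d', hd'⟩ : ∃ d', graphσ g0 D4Data.symA_ok σ (tor T F d) = tor T F d' :=
      ⟨_, graphσ_tor g0 _ _ (by decide +kernel) (by decide +kernel) d⟩
    rw [← h2, hd', tor_xg g0 d' hpn, mul_one] at e
    have e1 := xg_injective g0 hpn e
    have e2 : wt T F d' p = wt T F d m := by
      have h3 := hd'.symm.trans h2
      rw [tor_apply] at h3
      have hp' : p < T.D.nroots := hpn
      have h4 := congrArg (fun X : GL T.D.Idx F =>
        (X : Matrix T.D.Idx T.D.Idx F) (Sum.inr ⟨p, hp'⟩) (Sum.inr ⟨p, hp'⟩)) h3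
      simp only [dg_val, Matrix.diagonal_apply_eq, dgv, Sum.elim_inr] at h4
      rw [← hm]
      exact Units.ext h4
    refine Units.ext ?_
    rw [← e2, Units.val_pow_eq_pow_val, e1]
  exact ⟨key 18 (by decide) 13 rfl rfl 16 (by decide +kernel) (by decide),
    key 13 (by decide) 12 rfl rfl 15 (by decide +kernel) (by decide),
    key 12 (by decide) 18 rfl rfl 19 (by decide +kernel) (by decide),
    key 14 (by decide) 14 rfl rfl 9 (by decide +kernel) (by decide)⟩

/-- The four equations determine the weights from that at one root. -/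
theorem weights_determined (d : ℕ → Fˣ) {q : ℕ} (hq : 1 ≤ q)
    (h : wt T F d 16 = wt T F d 18 ^ q ∧ wt T F d 15 = wt T F d 13 ^ q ∧
      wt T F d 19 = wt T F d 12 ^ q ∧ wt T F d 9 = wt T F d 14 ^ q) :
    wt T F d 18 ^ ((q ^ 3 - 1) * (q + 1)) = 1 ∧
    wt T F d 14 = wt T F d 18 ^ (q ^ 3 - 1) ∧
    wt T F d 13 = wt T F d 18 ^ q / wt T F d 18 ^ (q ^ 3 - 1) ∧
    wt T F d 12 = wt T F d 18 ^ (q ^ 2) := by
  obtain ⟨h16, h15, h19, h9⟩ := h
  rw [show (16 : ℕ) = (16 : Fin 24).val from rfl,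
    wt_add d (r := 14) (s := 13) (t := 16) (by decide)] at h16
  rw [show (15 : ℕ) = (15 : Fin 24).val from rfl,
    wt_add d (r := 14) (s := 12) (t := 15) (by decide)] at h15
  rw [show (19 : ℕ) = (19 : Fin 24).val from rfl,
    wt_add d (r := 18) (s := 14) (t := 19) (by decide)] at h19
  rw [show (9 : ℕ) = T.neg 14 from rfl, wt_neg g0 (by decide) d] at h9
  change wt T F d 14 * wt T F d 13 = _ at h16
  change wt T F d 14 * wt T F d 12 = _ at h15
  change wt T F d 18 * wt T F d 14 = _ at h19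
  set a := wt T F d 18
  set v := wt T F d 14
  have hv : v ^ (q + 1) = 1 := by rw [pow_succ, ← h9, inv_mul_cancel]
  have h13 : wt T F d 13 = a ^ q / v := by rw [eq_div_iff_mul_eq', mul_comm, h16]
  have h12 : wt T F d 12 = a ^ q ^ 2 := by
    rw [h13, div_pow, ← pow_mul, ← pow_two] at h15
    have h12' : wt T F d 12 = a ^ q ^ 2 / (v ^ q * v) := by
      rw [← div_div, ← h15, mul_div_cancel_left]
    rw [h12', ← pow_succ, hv, div_one]
  have hv' : v = a ^ (q ^ 3 - 1) := by
    rw [h12, ← pow_mul, ← pow_succ] at h19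
    have h3 : 1 ≤ q ^ 3 := Nat.one_le_pow _ _ hq
    rw [show (2 + 1) = 3 from rfl, show q ^ 3 = (q ^ 3 - 1) + 1 by omega, pow_succ', mul_left_cancel_iff] at h19
    exact h19
  refine ⟨by rw [pow_mul, ← hv', hv], hv', by rw [h13, ← hv'], h12⟩

end Cfsg.Agent.D4Torus
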