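import Cfsg.Agent.Lib.D4Torus.Weights
import Cfsg.Agent.Lib.G2Torus.Regular

/-! The centraliser of the torus element inside the group of type D4. -/

set_option autoImplicit false
set_option maxRecDepth 20000

namespace Cfsg.Agent.D4Torus

open Cfsg.Lie Cfsg.Agent.Chev Cfsg.Agent.Chev.Tab

theorem gA : T.GoodA := TwD4.gA

theorem g0 : T.Good := gA.toGood

/-- The Cartan integers of an image under a word depend additively on those of the root. -/
theorem A_image_add {L : List ℕ} (hL : T.Wd L) {r s t : Fin 24}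
    (h : ∀ j : Fin 4, cart j t = cart j r + cart j s) :
    ∀ j < 4, T.A j (T.rw' L t.val) = T.A j (T.rw' L r.val) + T.A j (T.rw' L s.val) := by
  induction L with
  | nil =>
    intro j hj
    simp only [rw'_nil]
    rw [cart_eq ⟨j, hj⟩, cart_eq ⟨j, hj⟩, cart_eq ⟨j, hj⟩]
    exact h ⟨j, hj⟩
  | cons i L ih =>
    obtain ⟨hi, hL'⟩ := Wd.cons_iff.1 hL
    have ih' := ih hL'
    intro j hj
    have key : ∀ i < 4, ∀ u < 24, ∀ j < 4,
        T.A j (T.ref i u) = T.A j u - T.A j (T.smp i) * T.A i u := by decide +kernel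
    have hlt : ∀ u : Fin 24, T.rw' L u.val < 24 := fun u => rw'_lt g0 hL' u.isLt
    simp only [rw'_cons]
    rw [key i hi _ (hlt t) j hj, key i hi _ (hlt r) j hj, key i hi _ (hlt s) j hj, ih' j hj,
      ih' i hi]
    ring

theorem A_inj : ∀ r < 24, ∀ s < 24, (∀ j < 4, T.A j r = T.A j s) → r = s := by decide +kernel

/-- A word fixing two roots fixes their sum. -/
theorem fix_add {L : List ℕ} (hL : T.Wd L) {r s t : Fin 24}
    (h : ∀ j : Fin 4, cart j t = cart j r + cart j s) (hr : T.rw' L r.val = r.val)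
    (hs : T.rw' L s.val = s.val) : T.rw' L t.val = t.val := by
  refine A_inj _ (rw'_lt g0 hL t.isLt) _ t.isLt fun j hj => ?_
  rw [A_image_add hL h j hj, hr, hs, cart_eq ⟨j, hj⟩, cart_eq ⟨j, hj⟩, cart_eq ⟨j, hj⟩, h]

/-- A word fixing one summand and the sum fixes the other summand. -/
theorem fix_sub {L : List ℕ} (hL : T.Wd L) {r s t : Fin 24}
    (h : ∀ j : Fin 4, cart j t = cart j r + cart j s) (hr : T.rw' L r.val = r.val)
    (ht : T.rw' L t.val = t.val) : T.rw' L s.val = s.val := by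
  refine A_inj _ (rw'_lt g0 hL s.isLt) _ s.isLt fun j hj => ?_
  have := A_image_add hL h j hj
  rw [hr, ht, cart_eq ⟨j, hj⟩, cart_eq ⟨j, hj⟩, h] at this
  rw [cart_eq ⟨j, hj⟩]
  linarith

theorem fix_all {L : List ℕ} (hL : T.Wd L) (h : ∀ k : Fin 4, T.rw' L (sep4 k).val = (sep4 k).val) :
    ∀ s < T.n, T.rw' L s = s := by
  have a18 : T.rw' L (18 : Fin 24).val = (18 : Fin 24).val := h 0
  have a19 : T.rw' L (19 : Fin 24).val = (19 : Fin 24).val := h 1
  have a13 : T.rw' L (13 : Fin 24).val = (13 : Fin 24).val := h 2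
  have a12 : T.rw' L (12 : Fin 24).val = (12 : Fin 24).val := h 3
  have a14 := fix_sub hL (r := 18) (s := 14) (t := 19) (by decide) a18 a19
  have a15 := fix_add hL (r := 14) (s := 12) (t := 15) (by decide) a14 a12
  have a16 := fix_add hL (r := 14) (s := 13) (t := 16) (by decide) a14 a13
  have a17 := fix_add hL (r := 15) (s := 13) (t := 17) (by decide) a15 a13
  have a20 := fix_add hL (r := 19) (s := 12) (t := 20) (by decide) a19 a12
  have a21 := fix_add hL (r := 19) (s := 13) (t := 21) (by decide) a19 a13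
  have a22 := fix_add hL (r := 20) (s := 13) (t := 22) (by decide) a20 a13
  have a23 := fix_add hL (r := 22) (s := 14) (t := 23) (by decide) a22 a14
  have hpos : ∀ s, 12 ≤ s → s < 24 → T.rw' L s = s := by
    intro s h1 h2
    interval_cases s
    exacts [a12, a13, a14, a15, a16, a17, a18, a19, a20, a21, a22, a23]
  intro s hs
  have hs' : s < 24 := hs
  by_cases h12 : 12 ≤ s
  · exact hpos s h12 hs'
  · have hneg : ∀ s < 12, 12 ≤ T.neg s ∧ T.neg s < 24 ∧ T.neg (T.neg s) = s := by decide +kernel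
    obtain ⟨n1, n2, n3⟩ := hneg s (by omega)
    rw [← n3, rw'_neg g0 hL (show T.neg s < T.n from n2), hpos _ n1 n2]

variable {F : Type*} [Field F]

theorem exists_tor {q : ℕ} (hq : 2 ≤ q) (ζ : Fˣ) (hζ : (orderOf ζ : ℤ) = NN q) {c : ℕ → Fˣ}
    (hc : ∀ s : Fin 24, wt T F c s.val = ζ ^ fe q s)
    {x : GL T.D.Idx F} (hx : x ∈ T.D.group F) (hcomm : Commute (tor T F c) x) :
    ∃ d, x = tor T F d := by
  obtain ⟨hsep, hne⟩ := weights_separate q hq
  refine G2Torus.exists_tor_of_commute' gA (fun L hL hw => fix_all hL fun k => ?_) (fun s hs => ?_) hx hcomm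
  · have hlt : T.rw' L (sep4 k).val < 24 := rw'_lt g0 hL (sep4 k).isLt
    have e := hw (sep4 k).val (sep4 k).isLt
    rw [show T.rw' L (sep4 k).val = (⟨_, hlt⟩ : Fin 24).val from rfl, hc, hc,
      ← orderOf_dvd_sub_iff_zpow_eq_zpow, hζ] at e
    exact congrArg Fin.val (hsep k _ e)
  · intro e
    have hs' : s < 24 := hs
    rw [show s = (⟨s, hs'⟩ : Fin 24).val from rfl, hc, ← orderOf_dvd_iff_zpow_eq_one, hζ] at e
    exact hne _ e

end Cfsg.Agent.D4Torus
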