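import Cfsg.Agent.Lib.Lie.TwD4

/-! Weights of the torus element of `³D₄(q)` of order `(q³ - 1)(q + 1)`. -/

set_option autoImplicit false
set_option maxRecDepth 20000

namespace Cfsg.Agent.D4Torus

open Cfsg.Lie Cfsg.Agent.Chev Cfsg.Agent.Chev.Tab

/-- The table. -/
abbrev T : Tab := D4Data.tab

/-- Cartan integers. -/
def cart : Fin 4 → Fin 24 → ℤ :=
  ![![0, -1, -1, -1, -1, -2, 1, 1, 1, 1, 0, 0, 0, 0, -1, -1, -1, -1, 2, 1, 1, 1, 1, 0],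
    ![-1, 1, 0, 0, -1, 1, 0, -1, -1, -2, 1, 1, -1, -1, 2, 1, 1, 0, -1, 1, 0, 0, -1, 1],
    ![0, -1, -1, 1, 1, 0, -1, -1, 1, 1, -2, 0, 0, 2, -1, -1, 1, 1, 0, -1, -1, 1, 1, 0],
    ![0, -1, 1, -1, 1, 0, -1, 1, -1, 1, 0, -2, 2, 0, -1, 1, -1, 1, 0, -1, 1, -1, 1, 0]]

theorem cart_eq : ∀ (i : Fin 4) (s : Fin 24), T.A i.val s.val = cart i s := by decide +kernel

/-- The digits of the exponent at a root. -/
def dig (s : Fin 24) : ℤ × ℤ × ℤ × ℤ :=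
  (cart 0 s + cart 1 s, cart 0 s + cart 1 s + cart 2 s, cart 1 s + cart 2 s + cart 3 s, cart 3 s)

/-- The exponent at a root. -/
def fe (q : ℤ) (s : Fin 24) : ℤ :=
  cart 0 s * (q + 1) + cart 1 s * (q ^ 2 + q + 1) + cart 2 s * (q ^ 2 + q) + cart 3 s * (q ^ 3 + q ^ 2)

/-- The order of the element. -/
def NN (q : ℤ) : ℤ := (q ^ 3 - 1) * (q + 1)

theorem fe_dig (q : ℤ) (s : Fin 24) :
    fe q s = (dig s).1 + (dig s).2.1 * q + (dig s).2.2.1 * q ^ 2 + (dig s).2.2.2 * q ^ 3 := by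
  simp only [fe, dig]; ring

theorem digits_zero {q : ℤ} (hq : 10 ≤ q) {a b c d : ℤ} (ha : |a| ≤ 8) (hb : |b| ≤ 8) (hc : |c| ≤ 8)
    (hd : |d| ≤ 8) (h : NN q ∣ a + b * q + c * q ^ 2 + d * q ^ 3) :
    a = 0 ∧ b = 0 ∧ c = 0 ∧ d = 0 := by
  rw [abs_le] at ha hb hc hd
  have h0 : a + b * q + c * q ^ 2 + d * q ^ 3 = 0 := by
    refine Int.eq_zero_of_abs_lt_dvd h (abs_lt.2 ⟨?_, ?_⟩) <;>
      simp only [NN] <;>
      nlinarith [mul_le_mul_of_nonneg_right hb.1 (show (0 : ℤ) ≤ q by omega),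
        mul_le_mul_of_nonneg_right hb.2 (show (0 : ℤ) ≤ q by omega),
        mul_le_mul_of_nonneg_right hc.1 (sq_nonneg q), mul_le_mul_of_nonneg_right hc.2 (sq_nonneg q),
        mul_le_mul_of_nonneg_right hd.1 (show (0 : ℤ) ≤ q ^ 3 by positivity),
        mul_le_mul_of_nonneg_right hd.2 (show (0 : ℤ) ≤ q ^ 3 by positivity),
        mul_nonneg (show (0 : ℤ) ≤ q - 10 by omega) (show (0 : ℤ) ≤ q ^ 3 by positivity),
        mul_nonneg (show (0 : ℤ) ≤ q - 10 by omega) (sq_nonneg q)]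
  have key : ∀ x y : ℤ, |x| ≤ 8 → x + y * q = 0 → x = 0 ∧ y = 0 := fun x y hx hxy => by
    have hx0 : x = 0 := Int.eq_zero_of_abs_lt_dvd (m := q) ⟨-y, by linarith⟩ (by omega)
    subst hx0
    refine ⟨rfl, ?_⟩
    rcases mul_eq_zero.1 (show y * q = 0 by linarith) with h | h <;> omega
  obtain ⟨ha0, h1⟩ := key a (b + c * q + d * q ^ 2) (abs_le.2 ha) (by linarith)
  obtain ⟨hb0, h2⟩ := key b (c + d * q) (abs_le.2 hb) (by linarith)
  obtain ⟨hc0, h3⟩ := key c d (abs_le.2 hc) h2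
  exact ⟨ha0, hb0, hc0, h3⟩

/-- Roots whose weight determines them. -/
def sep4 : Fin 4 → Fin 24 := ![18, 19, 13, 12]

theorem sep_small : ∀ q : Fin 10, 2 ≤ q.val →
    (∀ (k : Fin 4) (r : Fin 24), NN q.val ∣ fe q.val r - fe q.val (sep4 k) → r = sep4 k) ∧
      ∀ r : Fin 24, ¬ NN q.val ∣ fe q.val r := by decide +kernel

theorem dig_bound : ∀ r s : Fin 24,
    (|(dig r).1| ≤ 8 ∧ |(dig r).2.1| ≤ 8 ∧ |(dig r).2.2.1| ≤ 8 ∧ |(dig r).2.2.2| ≤ 8) ∧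
    |(dig r).1 - (dig s).1| ≤ 8 ∧ |(dig r).2.1 - (dig s).2.1| ≤ 8 ∧
    |(dig r).2.2.1 - (dig s).2.2.1| ≤ 8 ∧ |(dig r).2.2.2 - (dig s).2.2.2| ≤ 8 := by decide +kernel

theorem dig_inj : ∀ r s : Fin 24, dig r = dig s → r = s := by decide +kernel

theorem dig_ne : ∀ r : Fin 24, dig r ≠ 0 := by decide +kernel

theorem weights_separate (q : ℕ) (hq : 2 ≤ q) :
    (∀ (k : Fin 4) (r : Fin 24), NN q ∣ fe q r - fe q (sep4 k) → r = sep4 k) ∧
      ∀ r : Fin 24, ¬ NN q ∣ fe q r := by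
  by_cases h : q < 10
  · exact sep_small ⟨q, h⟩ hq
  · have hq' : (10 : ℤ) ≤ q := by omega
    refine ⟨fun k r hd => dig_inj _ _ ?_, fun r hd => dig_ne r ?_⟩
    · obtain ⟨-, b1, b2, b3, b4⟩ := dig_bound r (sep4 k)
      have hd' : NN (q : ℤ) ∣ ((dig r).1 - (dig (sep4 k)).1) + ((dig r).2.1 - (dig (sep4 k)).2.1) * q +
          ((dig r).2.2.1 - (dig (sep4 k)).2.2.1) * (q : ℤ) ^ 2 +
          ((dig r).2.2.2 - (dig (sep4 k)).2.2.2) * (q : ℤ) ^ 3 := by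
        convert hd using 1
        rw [fe_dig, fe_dig]; ring
      obtain ⟨e1, e2, e3, e4⟩ := digits_zero hq' b1 b2 b3 b4 hd'
      exact Prod.ext (by omega) (Prod.ext (by omega) (Prod.ext (by omega) (by omega)))
    · obtain ⟨⟨b1, b2, b3, b4⟩, -⟩ := dig_bound r r
      rw [fe_dig] at hd
      obtain ⟨e1, e2, e3, e4⟩ := digits_zero hq' b1 b2 b3 b4 hd
      exact Prod.ext e1 (Prod.ext e2 (Prod.ext e3 e4))

theorem fe_coprime (q : ℕ) : IsCoprime (fe q 18) (NN q) := by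
  set t : ℤ := (q : ℤ)
  have hf : fe t 18 = -t ^ 2 + t + 1 := by
    simp [fe, cart]; ring
  have hN : NN t = (t - 1) * (t + 1) * (t ^ 2 + t + 1) := by simp only [NN]; ring
  rw [hf, hN]
  refine IsCoprime.mul_right (IsCoprime.mul_right ⟨1, t, by ring⟩ ⟨-1, -(t - 2), by ring⟩) ?_
  have h2 : IsCoprime (2 * (t + 1)) (t ^ 2 + t + 1) := by
    obtain ⟨m, hm⟩ := Int.even_mul_succ_self t
    exact IsCoprime.mul_left ⟨-m, 1, by linear_combination hm⟩ ⟨-t, 1, by ring⟩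
  obtain ⟨a, b, hab⟩ := h2
  exact ⟨a, a + b, by linear_combination hab⟩

end Cfsg.Agent.D4Torus
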